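import Mathlib
import Cfsg.Prelude.Def_Characters

/-!
# S4751 (characters with root-of-unity values on `p`-singular elements): common definitions

`Q` is a normal subgroup of the finite group `G` (in the application `Q = O_p(G)`), `χ` a character of `G`.

* `fixedHoms Q y`: the nontrivial homomorphisms `Q →* ℂˣ` invariant under conjugation by `y`.
* `Core Q χ`: the output of the Clifford step: `Q` abelian, `χ(1) = |Q| - 1`, `χ|_Q` is the sum of all
  nontrivial linear characters of `Q`, each once, and `G` permutes them transitively.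
-/

set_option autoImplicit false

namespace Cfsg.Agent.Lib.Helper58.RU

open Cfsg

universe u

variable {G : Type u} [Group G]

/-- the conjugate `φ^y : x ↦ φ (y x y⁻¹)` of a homomorphism on a normal subgroup -/
def conjHom (Q : Subgroup G) [hQn : Q.Normal] (y : G) (φ : Q →* ℂˣ) : Q →* ℂˣ where
  toFun x := φ ⟨y * x * y⁻¹, hQn.conj_mem x x.2 y⟩
  map_one' := by
    have : (⟨y * ((1 : Q) : G) * y⁻¹, hQn.conj_mem 1 (1 : Q).2 y⟩ : Q) = 1 := by
      apply Subtype.ext; simp
    rw [this, map_one]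
  map_mul' a b := by
    rw [← map_mul]
    congr 1
    apply Subtype.ext
    simp [mul_assoc]

@[simp] theorem conjHom_apply (Q : Subgroup G) [hQn : Q.Normal] (y : G) (φ : Q →* ℂˣ) (x : Q) :
    conjHom Q y φ x = φ ⟨y * x * y⁻¹, hQn.conj_mem x x.2 y⟩ := rfl

/-- the nontrivial homomorphisms `Q →* ℂˣ` fixed by conjugation with `y` -/
def fixedHoms (Q : Subgroup G) [Q.Normal] (y : G) : Set (Q →* ℂˣ) :=
  {φ | φ ≠ 1 ∧ conjHom Q y φ = φ}

/-- Output of the Clifford step. -/
structure Core (Q : Subgroup G) [Q.Normal] [Fintype Q] (χ : G → ℂ) : Prop where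
  comm : ∀ x ∈ Q, ∀ y ∈ Q, x * y = y * x
  deg : χ 1 = (Nat.card Q : ℂ) - 1
  mult_one : ∀ φ : Q →* ℂˣ, φ ≠ 1 →
    classInner (fun x : Q => χ x) (fun x : Q => ((φ x : ℂˣ) : ℂ)) = 1
  mult_triv : classInner (fun x : Q => χ x) (fun _ : Q => (1 : ℂ)) = 0
  trans : ∀ φ ψ : Q →* ℂˣ, φ ≠ 1 → ψ ≠ 1 → ∃ g : G, conjHom Q g φ = ψ

end Cfsg.Agent.Lib.Helper58.RU
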