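import Mathlib
import Cfsg.Agent.Lib.Helper58.RU.Defs
import Cfsg.Agent.Lib.Helper77.Linear

/-!
# S4751, module [T]: the transitivity statement in the form of the frozen statement
-/

set_option autoImplicit false

namespace Cfsg.Agent.Lib.Helper58.RU

open Cfsg

universe u

variable {G : Type u} [Group G]

/-- MODULE [T] bridge for the transitivity statement -/
theorem trans_bridge (Q : Subgroup G) [hQn : Q.Normal]
    (htrans : ∀ φ ψ : Q →* ℂˣ, φ ≠ 1 → ψ ≠ 1 → ∃ g : G, conjHom Q g φ = ψ)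
    (lam mu : Q → ℂ) (hlam : IsCharacter Q lam) (hlam1 : lam 1 = 1)
    (hlamne : lam ≠ (fun _ => (1 : ℂ))) (hmu : IsCharacter Q mu) (hmu1 : mu 1 = 1)
    (hmune : mu ≠ (fun _ => (1 : ℂ))) :
    ∃ g : G, ∀ (x : G) (hx : x ∈ Q) (hgx : g * x * g⁻¹ ∈ Q),
      mu ⟨x, hx⟩ = lam ⟨g * x * g⁻¹, hgx⟩ := by
  obtain ⟨φ, hφ⟩ := Cfsg.Agent.Lib.Helper77.exists_monoidHom_of_degree_one hlam hlam1
  obtain ⟨ψ, hψ⟩ := Cfsg.Agent.Lib.Helper77.exists_monoidHom_of_degree_one hmu hmu1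
  have hφ1 : φ ≠ 1 := by
    intro h
    apply hlamne
    funext x
    rw [hφ x, h]
    simp
  have hψ1 : ψ ≠ 1 := by
    intro h
    apply hmune
    funext x
    rw [hψ x, h]
    simp
  obtain ⟨g, hg⟩ := htrans φ ψ hφ1 hψ1
  refine ⟨g, ?_⟩
  intro x hx hgx
  rw [hψ ⟨x, hx⟩, hφ ⟨g * x * g⁻¹, hgx⟩, ← hg, conjHom_apply]

end Cfsg.Agent.Lib.Helper58.RU
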