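import Mathlib
import Cfsg.Agent.Lib.Helper58.RU.Defs

/-!
# S4751 module RU-[E]: the abelian normal `p`-subgroup `Q` has exponent `p`
when `G` permutes the nontrivial homomorphisms `Q →* ℂˣ` transitively.
-/

set_option autoImplicit false

namespace Cfsg.Agent.Lib.Helper58.RU

open Cfsg

universe u

variable {G : Type u} [Group G]

theorem conjHom_pow (Q : Subgroup G) [Q.Normal] (g : G) (ψ : Q →* ℂˣ) (n : ℕ) :
    conjHom Q g (ψ ^ n) = (conjHom Q g ψ) ^ n := by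
  ext x
  simp [MonoidHom.pow_apply]

theorem conjHom_one' (Q : Subgroup G) [Q.Normal] (g : G) :
    conjHom Q g (1 : Q →* ℂˣ) = 1 := by
  ext x
  simp

/-- MODULE RU-[E]: `Q` has exponent `p` (version by helper58) -/
theorem pow_eq_one_of_core' {p : ℕ} [Fact p.Prime] (Q : Subgroup G) [Q.Normal] [Finite Q]
    (hQp : IsPGroup p Q) (hcomm : ∀ x ∈ Q, ∀ y ∈ Q, x * y = y * x)
    (htrans : ∀ φ ψ : Q →* ℂˣ, φ ≠ 1 → ψ ≠ 1 → ∃ g : G, conjHom Q g φ = ψ) :
    ∀ x ∈ Q, x ^ p = 1 := by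
  classical
  intro x hx
  by_contra hne
  let _ : CommGroup Q :=
    { (inferInstance : Group Q) with mul_comm := fun a b => Subtype.ext (hcomm a a.2 b b.2) }
  have hne' : (⟨x, hx⟩ : Q) ^ p ≠ 1 := by
    intro h
    apply hne
    have := congrArg (Subtype.val) h
    simpa using this
  obtain ⟨φ, hφ⟩ := CommGroup.exists_apply_ne_one_of_hasEnoughRootsOfUnity Q ℂ hne'
  have hφp : φ ^ p ≠ 1 := by
    intro h
    apply hφ
    have h2 := congrArg (fun f : Q →* ℂˣ => f ⟨x, hx⟩) h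
    simp only [MonoidHom.pow_apply, MonoidHom.one_apply] at h2
    rw [map_pow]
    exact h2
  have hφ1 : φ ≠ 1 := by
    intro h
    apply hφp
    rw [h, one_pow]
  have hcard : Nat.card (Q →* ℂˣ) = Nat.card Q :=
    CommGroup.card_monoidHom_of_hasEnoughRootsOfUnity Q ℂ
  have hfin : Finite (Q →* ℂˣ) := by
    apply Nat.finite_of_card_ne_zero
    rw [hcard]
    exact Nat.card_pos.ne'
  obtain ⟨n, hn⟩ := IsPGroup.iff_card.mp hQp
  have hn0 : n ≠ 0 := by
    intro h0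
    rw [h0, pow_zero] at hn
    have hsub : Subsingleton Q := (Nat.card_eq_one_iff_unique.mp hn).1
    exact hne' (Subsingleton.elim _ _)
  have hdvd : p ∣ Nat.card (Q →* ℂˣ) := by
    rw [hcard, hn]
    exact dvd_pow_self p hn0
  obtain ⟨ψ₀, hψ₀⟩ := exists_prime_orderOf_dvd_card' p hdvd
  have hψ1 : ψ₀ ≠ 1 := by
    intro h
    rw [h, orderOf_one] at hψ₀
    exact (Fact.out : p.Prime).one_lt.ne hψ₀
  have hψp : ψ₀ ^ p = 1 := by
    rw [← hψ₀]
    exact pow_orderOf_eq_one ψ₀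
  obtain ⟨g, hg⟩ := htrans ψ₀ φ hψ1 hφ1
  apply hφp
  rw [← hg, ← conjHom_pow, hψp, conjHom_one']

end Cfsg.Agent.Lib.Helper58.RU
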