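import Mathlib
import Cfsg.Agent.Lib.Helper58.RU.Defs
import Cfsg.Agent.Lib.Helper58.RU.Exp
import Cfsg.Agent.Lib.Helper14.FCRecogB
import Cfsg.Agent.Lib.Helper54.Coprime

/-!
# S4751 module RU-[N]: `|G| = 24 |Z(G)|` with `|Z(G)|` odd in the exceptional case
`|Q| = 4`, `|P| = 8`, `C_G(Q) = Q × Z(G)`, `G` transitive on the three nontrivial characters of `Q`.
-/

set_option autoImplicit false

namespace Cfsg.Agent.Lib.Helper58.RU

open Cfsg

universe u

variable {G : Type u} [Group G]

theorem conjHom_one_left (Q : Subgroup G) [Q.Normal] (φ : Q →* ℂˣ) : conjHom Q 1 φ = φ := by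
  refine MonoidHom.ext fun x => ?_
  show φ ⟨_, _⟩ = φ x
  congr 1
  apply Subtype.ext
  simp

theorem conjHom_mul_left (Q : Subgroup G) [Q.Normal] (g h : G) (φ : Q →* ℂˣ) :
    conjHom Q (g * h) φ = conjHom Q h (conjHom Q g φ) := by
  refine MonoidHom.ext fun x => ?_
  show φ ⟨_, _⟩ = φ ⟨_, _⟩
  congr 1
  apply Subtype.ext
  simp [mul_assoc]

/-- the (left) action of `G` on `Q →* ℂˣ`: `g • φ = conjHom Q g⁻¹ φ` -/
@[reducible] def homAction (Q : Subgroup G) [Q.Normal] : MulAction G (Q →* ℂˣ) where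
  smul g φ := conjHom Q g⁻¹ φ
  one_smul φ := by
    show conjHom Q (1 : G)⁻¹ φ = φ
    rw [inv_one, conjHom_one_left]
  mul_smul g h φ := by
    show conjHom Q (g * h)⁻¹ φ = conjHom Q g⁻¹ (conjHom Q h⁻¹ φ)
    rw [mul_inv_rev, conjHom_mul_left]

/-- MODULE RU-[N]: orders in the exceptional case (version by helper58). -/
theorem card_of_two' [Finite G] (Q : Subgroup G) [Q.Normal] (hQ4 : Nat.card Q = 4)
    (hcomm : ∀ x ∈ Q, ∀ y ∈ Q, x * y = y * x)
    (htrans : ∀ φ ψ : Q →* ℂˣ, φ ≠ 1 → ψ ≠ 1 → ∃ g : G, conjHom Q g φ = ψ)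
    (hC : Subgroup.centralizer (Q : Set G) = Q ⊔ Subgroup.center G)
    (hQZ : Q ⊓ Subgroup.center G = ⊥)
    (h2C : ∀ c ∈ Subgroup.centralizer (Q : Set G), (∃ k : ℕ, orderOf c = 2 ^ k) → c ∈ Q)
    (P : Sylow 2 G) (hP8 : Nat.card (P : Subgroup G) = 8) :
    Nat.card G = 24 * Nat.card (Subgroup.center G) ∧ Odd (Nat.card (Subgroup.center G)) := by
  classical
  -- `|Z|` is odd
  have hodd : Odd (Nat.card (Subgroup.center G)) := by
    rw [← Nat.not_even_iff_odd]
    intro heven
    have h2 : 2 ∣ Nat.card (Subgroup.center G) := even_iff_two_dvd.mp heven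
    have hp2 : Fact (Nat.Prime 2) := ⟨Nat.prime_two⟩
    obtain ⟨z, hz⟩ := exists_prime_orderOf_dvd_card' 2 h2
    have hzC : (z : G) ∈ Subgroup.centralizer (Q : Set G) :=
      Subgroup.center_le_centralizer _ z.2
    have hzo : orderOf (z : G) = 2 := by rw [Subgroup.orderOf_coe]; exact hz
    have hzQ : (z : G) ∈ Q := h2C _ hzC ⟨1, by rw [hzo, pow_one]⟩
    have hmem : (z : G) ∈ Q ⊓ Subgroup.center G := ⟨hzQ, z.2⟩
    rw [hQZ, Subgroup.mem_bot] at hmem
    rw [hmem, orderOf_one] at hzo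
    omega
  refine ⟨?_, hodd⟩
  -- `|C| = 4 |Z|`
  have hCcard : Nat.card (Subgroup.centralizer (Q : Set G)) = 4 * Nat.card (Subgroup.center G) := by
    rw [hC, ← hQ4]
    apply Helper54.card_sup_of_le_normalizer _ hQZ
    rw [Subgroup.normalizer_eq_top]
    exact le_top
  -- `|G : C|` divides 6
  have hidx : (Subgroup.centralizer (Q : Set G)).index ∣ 6 := by
    have hker : (Helper14.conjPermHom Q).ker = Subgroup.centralizer (Q : Set G) := by
      ext y
      rw [MonoidHom.mem_ker, Subgroup.mem_centralizer_iff]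
      constructor
      · intro hy v hv
        by_cases h1 : v = 1
        · subst h1; simp
        · have hne : (⟨v, hv⟩ : Q) ≠ 1 := fun h => h1 (congrArg Subtype.val h)
          have h2 := Helper14.conjPermHom_apply_coe Q y ⟨⟨v, hv⟩, hne⟩
          rw [hy] at h2
          simp only [Equiv.Perm.coe_one, id_eq] at h2
          calc v * y = (y * v * y⁻¹) * y := by rw [← h2]
            _ = y * v := by group
      · intro hy
        ext ⟨⟨v, hv⟩, hne⟩
        rw [Helper14.conjPermHom_apply_coe]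
        simp only [Equiv.Perm.coe_one, id_eq]
        rw [← hy v hv]; group
    have h1 : (Helper14.conjPermHom Q).ker.index ∣ Nat.card (Equiv.Perm {v : Q // v ≠ 1}) := by
      rw [Subgroup.index_ker]
      exact Subgroup.card_subgroup_dvd_card _
    have h3 : Nat.card {v : Q // v ≠ 1} = 3 := Helper14.card_ne_one_subtype 3 hQ4
    have h6 : Nat.card (Equiv.Perm {v : Q // v ≠ 1}) = 6 := by
      have : Fintype {v : Q // v ≠ 1} := Fintype.ofFinite _
      rw [Nat.card_eq_fintype_card, Fintype.card_perm, ← Nat.card_eq_fintype_card, h3]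
      rfl
    rw [hker, h6] at h1
    exact h1
  -- `3 ∣ |G : C|`
  have h3idx : 3 ∣ (Subgroup.centralizer (Q : Set G)).index := by
    let _ : CommGroup Q :=
      { (inferInstance : Group Q) with mul_comm := fun a b => Subtype.ext (hcomm a a.2 b b.2) }
    have hcardΛ : Nat.card (Q →* ℂˣ) = 4 := by
      rw [CommGroup.card_monoidHom_of_hasEnoughRootsOfUnity Q ℂ, hQ4]
    have hfin : Finite (Q →* ℂˣ) := Nat.finite_of_card_ne_zero (by omega)
    obtain ⟨φ₀, hφ₀⟩ : ∃ φ₀ : Q →* ℂˣ, φ₀ ≠ 1 := by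
      by_contra h
      simp only [not_exists, not_not] at h
      have hsub : Subsingleton (Q →* ℂˣ) := ⟨fun a b => by rw [h a, h b]⟩
      have := Nat.card_eq_one_iff_unique.mpr ⟨hsub, ⟨1⟩⟩
      omega
    let _ := homAction Q
    have hsmul : ∀ (g : G) (φ : Q →* ℂˣ), g • φ = conjHom Q g⁻¹ φ := fun _ _ => rfl
    have horb : MulAction.orbit G φ₀ = ({1} : Set (Q →* ℂˣ))ᶜ := by
      ext ψ
      rw [MulAction.mem_orbit_iff, Set.mem_compl_iff, Set.mem_singleton_iff]
      constructor
      · rintro ⟨g, rfl⟩ h1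
        apply hφ₀
        rw [hsmul] at h1
        have := conjHom_mul_left Q g⁻¹ g φ₀
        rw [h1, conjHom_one', inv_mul_cancel, conjHom_one_left] at this
        exact this
      · intro hψ
        obtain ⟨g, hg⟩ := htrans φ₀ ψ hφ₀ hψ
        exact ⟨g⁻¹, by rw [hsmul, inv_inv]; exact hg⟩
    have hncard : (MulAction.orbit G φ₀).ncard = 3 := by
      rw [horb, Set.ncard_compl, hcardΛ, Set.ncard_singleton]
    have hstab : Subgroup.centralizer (Q : Set G) ≤ MulAction.stabilizer G φ₀ := by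
      intro c hc
      rw [MulAction.mem_stabilizer_iff, hsmul]
      refine MonoidHom.ext fun x => ?_
      show φ₀ ⟨_, _⟩ = φ₀ x
      congr 1
      apply Subtype.ext
      show c⁻¹ * (x : G) * c⁻¹⁻¹ = x
      rw [Subgroup.mem_centralizer_iff] at hc
      have := hc x x.2
      rw [inv_inv, mul_assoc, this, inv_mul_cancel_left]
    have := Subgroup.index_dvd_of_le hstab
    rw [MulAction.index_stabilizer, hncard] at this
    exact this
  -- `8 ∣ |G|`
  have h8 : 8 ∣ Nat.card G := by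
    rw [← hP8]
    exact Subgroup.card_subgroup_dvd_card _
  have hmul := Subgroup.card_mul_index (Subgroup.centralizer (Q : Set G))
  rw [hCcard] at hmul
  obtain ⟨k, hk⟩ := hodd
  have hidx_le : (Subgroup.centralizer (Q : Set G)).index ≤ 6 := Nat.le_of_dvd (by norm_num) hidx
  obtain ⟨a, ha⟩ := h3idx
  obtain ⟨b, hb⟩ := h8
  obtain ⟨c, hc⟩ := hidx
  have ha2 : a = 1 ∨ a = 2 := by
    have : a ≤ 2 := by omega
    have : a ≠ 0 := by
      intro h0
      rw [h0] at ha
      rw [ha] at hc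
      omega
    omega
  rcases ha2 with h | h
  · exfalso
    rw [h] at ha
    rw [ha, hk] at hmul
    rw [hb] at hmul
    omega
  · rw [h] at ha
    rw [ha] at hmul
    rw [← hmul]
    ring
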